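import Mathlib.CategoryTheory.Abelian.Indization
import Mathlib.CategoryTheory.Abelian.Refinements
import Mathlib.CategoryTheory.Subobject.ArtinianObject
import Mathlib.CategoryTheory.Subobject.Limits
import Mathlib.CategoryTheory.Preadditive.AdditiveFunctor
import Mathlib.RingTheory.Int.Basic
import Mathlib.Data.Nat.Prime.Defs

/-!
Elements of ind-objects of an abelian category and refinements by objects of the category.
-/

set_option autoImplicit false
set_option linter.unusedSectionVars false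

universe v

open CategoryTheory CategoryTheory.Limits Opposite

namespace Groth.Agent.IndCofLib

variable {C : Type v} [SmallCategory C] [Abelian C]

/-- The embedding of `C` in its ind-category. -/
noncomputable abbrev Y : C ⥤ Ind C := Ind.yoneda (C := C)

instance : (Y (C := C)).Additive := by
  have : PreservesBinaryBiproducts (Y (C := C)) :=
    preservesBinaryBiproducts_of_preservesBinaryProducts _
  exact Functor.additive_of_preservesBinaryBiproducts _

lemma hom_ext {A B : Ind C} {f g : A ⟶ B}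
    (h : ∀ (X : C) (x : Y.obj X ⟶ A), x ≫ f = x ≫ g) : f = g := by
  rw [← cancel_epi A.colimitPresentationCompYoneda.hom]
  refine colimit.hom_ext fun i => ?_
  simp only [← Category.assoc]
  exact h _ _

lemma mono_of {A B : Ind C} (f : A ⟶ B)
    (h : ∀ (X : C) (x : Y.obj X ⟶ A), x ≫ f = 0 → x = 0) : Mono f :=
  Preadditive.mono_of_cancel_zero _ fun {P} g hg => hom_ext fun X x => by
    rw [comp_zero]
    exact h X _ (by rw [Category.assoc, hg, comp_zero])

/-- The element of the underlying presheaf attached to a morphism from a representable. -/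
noncomputable def elt {A : Ind C} {X : C} (u : Y.obj X ⟶ A) :
    ((Ind.inclusion C).obj A).obj (op X) :=
  yonedaEquiv (Ind.yonedaCompInclusion.inv.app X ≫ (Ind.inclusion C).map u)

lemma elt_injective {A : Ind C} {X : C} : Function.Injective (elt (A := A) (X := X)) := by
  intro u v h
  have h' := yonedaEquiv.injective h
  rw [cancel_epi] at h'
  exact (Ind.inclusion C).map_injective h'

lemma elt_comp {A B : Ind C} {X : C} (u : Y.obj X ⟶ A) (f : A ⟶ B) :
    elt (u ≫ f) = ((Ind.inclusion C).map f).app (op X) (elt u) := by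
  simp only [elt, Functor.map_comp, ← Category.assoc, yonedaEquiv_comp]

lemma exists_map_eq_zero {I : Type v} [SmallCategory I] [IsFiltered I] (D : I ⥤ Ind C) {X : C}
    {i : I} (u : Y.obj X ⟶ D.obj i) (h : u ≫ colimit.ι D i = 0) :
    ∃ (j : I) (f : i ⟶ j), u ≫ D.map f = 0 := by
  have hc := isColimitOfPreserves (Ind.inclusion C ⋙ (CategoryTheory.evaluation Cᵒᵖ (Type v)).obj (op X))
    (colimit.isColimit D)
  obtain ⟨j, f, hf⟩ := (Types.FilteredColimit.isColimit_eq_iff' hc (i := i) (elt u)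
    (elt (0 : Y.obj X ⟶ D.obj i))).1 (by
      show ((Ind.inclusion C).map (colimit.ι D i)).app (op X) (elt u) =
        ((Ind.inclusion C).map (colimit.ι D i)).app (op X) (elt (0 : Y.obj X ⟶ D.obj i))
      rw [← elt_comp, ← elt_comp, h, zero_comp])
  refine ⟨j, f, elt_injective ?_⟩
  rw [elt_comp]
  refine Eq.trans hf ?_
  show ((Ind.inclusion C).map (D.map f)).app (op X) (elt (0 : Y.obj X ⟶ D.obj i)) = _
  rw [← elt_comp, zero_comp]

/-- An epimorphism onto a representable is refined by a representable. -/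
lemma exists_cover {T : Ind C} {X : C} (π : T ⟶ Y.obj X) [Epi π] :
    ∃ (X' : C) (q : X' ⟶ X) (l : Y.obj X' ⟶ T), Epi q ∧ l ≫ π = Y.map q := by
  let P := T.presentation
  let e := T.colimitPresentationCompYoneda
  let c : ∀ i : P.I, P.F.obj i ⟶ X := fun i =>
    Ind.yoneda.fullyFaithful.preimage (colimit.ι (P.F ⋙ Y) i ≫ e.hom ≫ π)
  have hc : ∀ i, Y.map (c i) = colimit.ι (P.F ⋙ Y) i ≫ e.hom ≫ π :=
    fun i => Ind.yoneda.fullyFaithful.map_preimage _
  have hnat : ∀ {i j : P.I} (f : i ⟶ j), P.F.map f ≫ c j = c i := fun {i j} f => by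
    apply (Y (C := C)).map_injective
    rw [Functor.map_comp, hc, hc, ← Category.assoc]
    exact congrArg (· ≫ e.hom ≫ π) (colimit.w (P.F ⋙ Y) f)
  let D : P.I ⥤ C :=
    { obj := fun i => cokernel (c i)
      map := fun {i j} f => cokernel.desc (c i) (cokernel.π (c j)) (by
        rw [← hnat f, Category.assoc, cokernel.condition, comp_zero])
      map_id := fun i => by ext; simp
      map_comp := fun f g => by ext; simp }
  let u : ∀ i : P.I, Y.obj X ⟶ colimit (D ⋙ Y) := fun i =>
    Y.map (cokernel.π (c i)) ≫ colimit.ι (D ⋙ Y) i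
  have hu' : ∀ {i j : P.I} (_ : i ⟶ j), u i = u j := fun {i j} f => by
    show Y.map _ ≫ _ = Y.map _ ≫ _
    rw [← colimit.w (D ⋙ Y) f, ← Category.assoc, Functor.comp_map, ← Functor.map_comp,
      cokernel.π_desc]
  have hu : ∀ i j, u i = u j := fun i j =>
    (hu' (IsFiltered.leftToMax i j)).trans (hu' (IsFiltered.rightToMax i j)).symm
  obtain ⟨i₀⟩ := (IsFiltered.nonempty (C := P.I))
  have h0 : π ≫ u i₀ = 0 := by
    rw [← cancel_epi e.hom]
    refine colimit.hom_ext fun i => ?_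
    rw [comp_zero, comp_zero, hu i₀ i, ← Category.assoc e.hom, ← Category.assoc, ← hc]
    show Y.map (c i) ≫ Y.map (cokernel.π (c i)) ≫ _ = 0
    rw [← Category.assoc, ← Functor.map_comp, cokernel.condition, Functor.map_zero, zero_comp]
  obtain ⟨j, f, hj⟩ := exists_map_eq_zero (D ⋙ Y) (i := i₀) (Y.map (cokernel.π (c i₀)))
    (zero_of_epi_comp π h0)
  have hj' : cokernel.π (c j) = 0 := by
    apply (Y (C := C)).map_injective
    rw [Functor.map_zero, ← hj, Functor.comp_map, ← Functor.map_comp, cokernel.π_desc]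
  exact ⟨P.F.obj j, c j, colimit.ι (P.F ⋙ Y) j ≫ e.hom, Abelian.epi_of_cokernel_π_eq_zero _ hj',
    by rw [hc, Category.assoc]⟩

/-- Surjectivity up to refinement by objects of `C`. -/
lemma exists_lift {A B : Ind C} (f : A ⟶ B) [Epi f] {X : C} (x : Y.obj X ⟶ B) :
    ∃ (X' : C) (q : X' ⟶ X) (_ : Epi q) (l : Y.obj X' ⟶ A), l ≫ f = Y.map q ≫ x := by
  obtain ⟨T, π, hπ, l, hl⟩ := surjective_up_to_refinements_of_epi f x
  obtain ⟨X', q, k, hq, hk⟩ := exists_cover π
  exact ⟨X', q, hq, k ≫ l, by rw [Category.assoc, ← hl, ← Category.assoc, hk]⟩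

lemma exists_of_comp_cokernel {A B : Ind C} (f : A ⟶ B) {X : C} (x : Y.obj X ⟶ B)
    (h : x ≫ cokernel.π f = 0) :
    ∃ (X' : C) (q : X' ⟶ X) (_ : Epi q) (l : Y.obj X' ⟶ A), l ≫ f = Y.map q ≫ x := by
  obtain ⟨T, π, hπ, l, hl⟩ :=
    ((CokernelCofork.IsColimit.comp_π_eq_zero_iff_up_to_refinements (cokernelIsCokernel f) x).1 h)
  obtain ⟨X', q, k, hq, hk⟩ := exists_cover π
  exact ⟨X', q, hq, k ≫ l, by rw [Category.assoc, ← hl, ← Category.assoc, hk]⟩

lemma comp_cokernel_eq_zero {A B : Ind C} (f : A ⟶ B) {X X' : C} (x : Y.obj X ⟶ B)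
    (q : X' ⟶ X) [Epi q] (l : Y.obj X' ⟶ A) (h : l ≫ f = Y.map q ≫ x) :
    x ≫ cokernel.π f = 0 := by
  rw [← cancel_epi (Y.map q), ← Category.assoc, ← h, Category.assoc, cokernel.condition, comp_zero,
    comp_zero]

lemma epi_of {A B : Ind C} (f : A ⟶ B) (h : ∀ (X : C) (x : Y.obj X ⟶ B),
    ∃ (X' : C) (q : X' ⟶ X) (_ : Epi q) (l : Y.obj X' ⟶ A), l ≫ f = Y.map q ≫ x) : Epi f :=
  Abelian.epi_of_cokernel_π_eq_zero _ (hom_ext fun X x => by
    obtain ⟨X', q, hq, l, hl⟩ := h X x
    rw [comp_cokernel_eq_zero f x q l hl, comp_zero])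

lemma imageSubobject_le_of {V : Type*} [Category V] [Abelian V] {A A' B : V} (f : A ⟶ B)
    (g : A' ⟶ B) (h : f ≫ cokernel.π g = 0) : imageSubobject f ≤ imageSubobject g := by
  have h' : f ≫ cokernel.π (imageSubobject g).arrow = 0 := by
    have e : g ≫ cokernel.π (imageSubobject g).arrow = 0 := by
      exact (congrArg (· ≫ cokernel.π (imageSubobject g).arrow)
        (imageSubobject_arrow_comp g).symm).trans
        (by simp only [Category.assoc, cokernel.condition, comp_zero])
    rw [← cokernel.π_desc g _ e, ← Category.assoc, h, zero_comp]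
  exact imageSubobject_le f (Abelian.monoLift (imageSubobject g).arrow f h')
    (Abelian.monoLift_comp _ _ _)

lemma imageSubobject_le_of_refine {A A' B : Ind C} (f : A ⟶ B) (g : A' ⟶ B)
    (h : ∀ (X : C) (x : Y.obj X ⟶ A),
      ∃ (X' : C) (q : X' ⟶ X) (_ : Epi q) (l : Y.obj X' ⟶ A'), l ≫ g = Y.map q ≫ x ≫ f) :
    imageSubobject f ≤ imageSubobject g :=
  imageSubobject_le_of f g (hom_ext fun X x => by
    obtain ⟨X', q, hq, l, hl⟩ := h X x
    rw [← Category.assoc, comp_cokernel_eq_zero g _ q l hl, comp_zero])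

lemma exists_of_imageSubobject_le {A A' B : Ind C} {f : A ⟶ B} {g : A' ⟶ B}
    (h : imageSubobject f ≤ imageSubobject g) {X : C} (x : Y.obj X ⟶ A) :
    ∃ (X' : C) (q : X' ⟶ X) (_ : Epi q) (l : Y.obj X' ⟶ A'), l ≫ g = Y.map q ≫ x ≫ f := by
  obtain ⟨X', q, hq, l, hl⟩ := exists_lift (factorThruImageSubobject g)
    (x ≫ factorThruImageSubobject f ≫ Subobject.ofLE _ _ h)
  refine ⟨X', q, hq, l, ?_⟩
  have := congrArg (· ≫ (imageSubobject g).arrow) hl
  simpa using this

lemma nsmul_eq (x : ℕ) {A B : Ind C} (f : A ⟶ B) : f ≫ (x • 𝟙 B) = x • f := by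
  rw [Preadditive.comp_nsmul, Category.comp_id]

lemma exists_coprime_part (m n : ℕ) (hm : 0 < m) (hn : 0 < n) :
    ∃ k, k ∣ m ∧ Nat.Coprime k n ∧ m ∣ n ^ m * k := by
  induction m using Nat.strong_induction_on with
  | _ m ih =>
    by_cases hc : Nat.Coprime m n
    · exact ⟨m, dvd_rfl, hc, Dvd.intro_left _ rfl⟩
    obtain ⟨p, hp, hpm, hpn⟩ := Nat.Prime.not_coprime_iff_dvd.1 hc
    obtain ⟨m', rfl⟩ := hpm
    have hm' : 0 < m' := Nat.pos_of_mul_pos_left hm
    have hlt : m' < p * m' := lt_mul_left hm' hp.one_lt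
    obtain ⟨k, hk, hkn, hd⟩ := ih m' hlt hm'
    refine ⟨k, hk.trans (Dvd.intro_left p rfl), hkn, ?_⟩
    refine (Nat.mul_dvd_mul hpn hd).trans ?_
    rw [← Nat.mul_assoc, ← pow_succ']
    exact Nat.mul_dvd_mul_right (pow_dvd_pow n (Nat.succ_le_of_lt hlt)) k

end Groth.Agent.IndCofLib
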