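import Groth.Agent.IndCofLib.Basic

/-!
Ind-objects of cofinite type.
-/

set_option autoImplicit false
set_option linter.unusedSectionVars false

universe v

open CategoryTheory CategoryTheory.Limits Opposite

namespace Groth.Agent.IndCofLib

variable {C : Type v} [SmallCategory C] [Abelian C]

/-- A chosen representative of the part of `A` killed by `n`, with its universal property. -/
structure Tor (A : Ind C) (n : ℕ) where
  /-- The object of `C`. -/
  G : C
  /-- The inclusion. -/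
  ι : Y.obj G ⟶ A
  mono : Mono ι
  nsmul_ι : n • ι = 0
  lift : ∀ {X : C} (x : Y.obj X ⟶ A), n • x = 0 → ∃ u : X ⟶ G, Y.map u ≫ ι = x

attribute [instance] Tor.mono

variable {A B : Ind C}

lemma nsmul_kernel_ι (m : ℕ) : m • kernel.ι (m • 𝟙 A) = 0 :=
  (nsmul_eq m (kernel.ι (m • 𝟙 A))).symm.trans (kernel.condition _)

lemma nsmul_comp_cokernel_π (m : ℕ) {D : Ind C} (a : D ⟶ A) :
    (m • a) ≫ cokernel.π (m • 𝟙 A) = 0 := by
  have h := congrArg (a ≫ ·) (cokernel.condition (m • 𝟙 A))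
  simp only [← Category.assoc, comp_zero] at h
  rwa [nsmul_eq] at h

/-- The representative given by cofiniteness. -/
noncomputable def Tor.ofEssImage {n : ℕ}
    (h : (Ind.yoneda (C := C)).essImage (kernel (n • 𝟙 A))) : Tor A n where
  G := h.witness
  ι := h.getIso.hom ≫ kernel.ι _
  mono := inferInstance
  nsmul_ι := by rw [← Preadditive.comp_nsmul, nsmul_kernel_ι, comp_zero]
  lift x hx := ⟨Ind.yoneda.fullyFaithful.preimage
    (kernel.lift (n • 𝟙 A) x (by rw [nsmul_eq, hx]) ≫ h.getIso.inv), by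
      rw [Ind.yoneda.fullyFaithful.map_preimage]; simp⟩

lemma essImage_of_map {n : ℕ} (G : C) (ψ : Y.obj G ⟶ A) [Mono ψ] (h : n • ψ = 0)
    (hlift : ∀ (X : C) (x : Y.obj X ⟶ A), n • x = 0 →
      ∃ (X' : C) (q : X' ⟶ X) (_ : Epi q) (u : X' ⟶ G), Y.map u ≫ ψ = Y.map q ≫ x) :
    (Ind.yoneda (C := C)).essImage (kernel (n • 𝟙 A)) := by
  let φ := kernel.lift (n • 𝟙 A) ψ (by rw [nsmul_eq, h])
  have : Mono φ := mono_of_mono_fac (kernel.lift_ι _ _ _)
  have : Epi φ := epi_of φ fun X x => by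
    obtain ⟨X', q, hq, u, hu⟩ := hlift X (x ≫ kernel.ι _) (by
      rw [← Preadditive.comp_nsmul, nsmul_kernel_ι, comp_zero])
    exact ⟨X', q, hq, Y.map u, (cancel_mono (kernel.ι (n • 𝟙 A))).1 (by
      simpa [φ] using hu)⟩
  have : IsIso φ := isIso_of_mono_of_epi φ
  exact ⟨G, ⟨asIso φ⟩⟩

variable (htor : ∀ X : C, ∃ m : ℕ, 0 < m ∧ m • 𝟙 X = 0)

include htor in
lemma exists_nsmul_eq_zero {X : C} (x : Y.obj X ⟶ A) : ∃ m : ℕ, 0 < m ∧ m • x = 0 := by
  obtain ⟨m, hm, h⟩ := htor X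
  refine ⟨m, hm, ?_⟩
  rw [← Category.id_comp x, ← Preadditive.nsmul_comp, ← (Y (C := C)).map_id, ← Functor.map_nsmul,
    h, Functor.map_zero, zero_comp]

lemma nsmul_pow {n : ℕ} (i j : ℕ) {D E : Ind C} (x : D ⟶ E) :
    n ^ i • n ^ j • x = n ^ (i + j) • x := by
  rw [← mul_smul, ← pow_add]

lemma pow_le_zero {n i j : ℕ} (h : i ≤ j) {D E : Ind C} {x : D ⟶ E} (hx : n ^ i • x = 0) :
    n ^ j • x = 0 := by
  obtain ⟨k, rfl⟩ := Nat.exists_eq_add_of_le h
  rw [add_comm, ← nsmul_pow, hx, smul_zero]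

section stab

variable {n : ℕ} (hA : ∀ k, Tor A (n ^ k)) (hart : ∀ X : C, IsArtinianObject X)

include hA hart in
lemma exists_stab : ∃ N : ℕ, ∀ k, N ≤ k → ∀ {X : C} (x : Y.obj X ⟶ A), n ^ (k + 1) • x = 0 →
    ∃ (X' : C) (q : X' ⟶ X) (_ : Epi q) (x' : Y.obj X' ⟶ A), n ^ (k + 2) • x' = 0 ∧
      n ^ (k + 1) • x' = n ^ k • (Y.map q ≫ x) := by
  choose g hg using fun k => (hA 1).lift (n ^ k • (hA (k + 1)).ι) (by
    rw [nsmul_pow, add_comm 1 k]; exact (hA (k + 1)).nsmul_ι)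
  choose h hh using fun k => (hA (k + 1)).lift (n • (hA (k + 2)).ι) (by
    rw [← mul_smul, ← pow_succ]; exact (hA (k + 2)).nsmul_ι)
  have hgh : ∀ k, g (k + 1) = h k ≫ g k := fun k => by
    apply (Y (C := C)).map_injective
    rw [← cancel_mono (hA 1).ι, Functor.map_comp, Category.assoc, hg, hg, Preadditive.comp_nsmul,
      hh, ← mul_smul, ← pow_succ]
  have := hart (hA 1).G
  let f : ℕ →o (Subobject (hA 1).G)ᵒᵈ :=
    ⟨fun k => OrderDual.toDual (imageSubobject (g k)), monotone_nat_of_le_succ fun k =>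
      OrderDual.toDual_le_toDual.2 (by
        refine imageSubobject_le _ (h k ≫ factorThruImageSubobject (g k)) ?_
        rw [Category.assoc, imageSubobject_arrow_comp, hgh])⟩
  obtain ⟨N, hN⟩ := antitone_chain_condition_of_isArtinianObject f
  refine ⟨N, fun k hk {X} x hx => ?_⟩
  obtain ⟨u, hu⟩ := (hA (k + 1)).lift x hx
  have heq : imageSubobject (g k) = imageSubobject (g (k + 1)) :=
    congrArg OrderDual.ofDual ((hN k hk).symm.trans (hN (k + 1) (hk.trans (Nat.le_succ k))))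
  obtain ⟨X', q, hq, l, hl⟩ := surjective_up_to_refinements_of_epi
    (factorThruImageSubobject (g (k + 1)))
    (u ≫ factorThruImageSubobject (g k) ≫ Subobject.ofLE _ _ heq.le)
  have e : q ≫ u ≫ g k = l ≫ g (k + 1) := by
    have := congrArg (· ≫ (imageSubobject (g (k + 1))).arrow) hl
    simpa using this
  refine ⟨X', q, hq, Y.map l ≫ (hA (k + 2)).ι, ?_, ?_⟩
  · rw [← Preadditive.comp_nsmul, (hA (k + 2)).nsmul_ι, comp_zero]
  · rw [← Preadditive.comp_nsmul, ← hg (k + 1), ← Category.assoc, ← Functor.map_comp, ← e,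
      Functor.map_comp, Functor.map_comp, Category.assoc, Category.assoc, hg,
      Preadditive.comp_nsmul, Preadditive.comp_nsmul, hu]

/-- The defining property of a stabilisation index. -/
def StabAt (A : Ind C) (n N : ℕ) : Prop :=
  ∀ {X : C} (x : Y.obj X ⟶ A),
    ∃ (X' : C) (q : X' ⟶ X) (_ : Epi q) (x' : Y.obj X' ⟶ A),
      n ^ N • (Y.map q ≫ x) = n ^ (N + 1) • x'

include hA hart htor in
lemma exists_stabAt (hn : 0 < n) : ∃ N : ℕ, StabAt A n N := by
  obtain ⟨N, hN⟩ := exists_stab hA hart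
  have step : ∀ j {X : C} (x : Y.obj X ⟶ A), n ^ (N + j) • x = 0 →
      ∃ (X' : C) (q : X' ⟶ X) (_ : Epi q) (x' : Y.obj X' ⟶ A),
        n ^ N • (Y.map q ≫ x) = n ^ (N + 1) • x' := by
    intro j
    induction j with
    | zero =>
      intro X x hx
      exact ⟨X, 𝟙 X, inferInstance, 0, by
        rw [CategoryTheory.Functor.map_id, Category.id_comp, smul_zero]; simpa using hx⟩
    | succ j ih =>
      intro X x hx
      obtain ⟨X₁, q₁, hq₁, x₁, -, hx₁⟩ := hN (N + j) (Nat.le_add_right N j) x hx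
      obtain ⟨X₂, q₂, hq₂, x₂, hx₂⟩ := ih (Y.map q₁ ≫ x - n • x₁) (by
        rw [smul_sub, ← mul_smul, ← pow_succ, hx₁, sub_self])
      refine ⟨X₂, q₂ ≫ q₁, epi_comp _ _, x₂ + Y.map q₂ ≫ x₁, ?_⟩
      have e : Y.map (q₂ ≫ q₁) ≫ x =
          Y.map q₂ ≫ (Y.map q₁ ≫ x - n • x₁) + n • (Y.map q₂ ≫ x₁) := by
        rw [Preadditive.comp_sub, Preadditive.comp_nsmul, sub_add_cancel, Functor.map_comp,
          Category.assoc]
      rw [e, smul_add, smul_add, hx₂, ← mul_smul, ← pow_succ]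
  refine ⟨N, fun {X} x => ?_⟩
  obtain ⟨m, hm, hmx⟩ := exists_nsmul_eq_zero htor x
  obtain ⟨a, r, hr, hmr⟩ : ∃ a r, Nat.Coprime r n ∧ m ∣ n ^ a * r := by
    obtain ⟨k, hk, hcop⟩ : ∃ k, k ∣ m ∧ Nat.Coprime k n ∧ m ∣ n ^ m * k := by
      exact exists_coprime_part m n hm hn
    exact ⟨m, k, hcop.1, hcop.2⟩
  -- invert `r` modulo a power of `n`
  have hb := Nat.gcd_eq_gcd_ab r (n ^ (N + 1))
  rw [Nat.Coprime.gcd_eq_one (Nat.Coprime.pow_right (N + 1) hr)] at hb
  set u : ℤ := Nat.gcdA r (n ^ (N + 1))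
  set w : ℤ := Nat.gcdB r (n ^ (N + 1))
  have hy : n ^ (N + a) • ((u * (r : ℤ)) • x) = 0 := by
    obtain ⟨c, hc⟩ := hmr
    rw [← natCast_zsmul, ← mul_smul, Nat.cast_pow, pow_add]
    rw [show ((n : ℤ) ^ N * (n : ℤ) ^ a) * (u * (r : ℤ)) =
      ((n : ℤ) ^ N * u) * ((n ^ a * r : ℕ) : ℤ) by push_cast; ring, hc, mul_smul,
      natCast_zsmul, mul_comm m c, mul_smul c m, hmx, smul_zero, smul_zero]
  obtain ⟨X', q, hq, x', hx'⟩ := step a ((u * (r : ℤ)) • x) hy
  refine ⟨X', q, hq, x' + n ^ N • (w • (Y.map q ≫ x)), ?_⟩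
  have e : x = (u * (r : ℤ)) • x + n ^ (N + 1) • (w • x) := by
    conv_lhs => rw [← one_zsmul x]
    rw [← natCast_zsmul, ← mul_smul, ← add_smul]
    congr 1
    push_cast at hb ⊢
    linarith [hb]
  conv_lhs => rw [e]
  rw [Preadditive.comp_add, smul_add, smul_add, hx', Preadditive.comp_nsmul,
    Preadditive.comp_zsmul]
  congr 1
  rw [← mul_smul, ← mul_smul, mul_comm]

lemma StabAt.iterate {N : ℕ} (h : StabAt A n N) (k : ℕ) {X : C} (x : Y.obj X ⟶ A) :
    ∃ (X' : C) (q : X' ⟶ X) (_ : Epi q) (x' : Y.obj X' ⟶ A),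
      n ^ N • (Y.map q ≫ x) = n ^ (N + k) • x' := by
  induction k with
  | zero => exact ⟨X, 𝟙 X, inferInstance, x, by simp⟩
  | succ k ih =>
    obtain ⟨X₁, q₁, hq₁, x₁, hx₁⟩ := ih
    obtain ⟨X₂, q₂, hq₂, x₂, hx₂⟩ := h x₁
    refine ⟨X₂, q₂ ≫ q₁, epi_comp _ _, x₂, ?_⟩
    rw [Functor.map_comp, Category.assoc, ← Preadditive.comp_nsmul, hx₁, Preadditive.comp_nsmul,
      add_comm N k, ← nsmul_pow, hx₂, nsmul_pow, add_comm k (N + 1), add_right_comm]
    rfl

/-- The image of `n ^ N` is the image of every higher power. -/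
lemma StabAt.imageSubobject_eq {N : ℕ} (h : StabAt A n N) {M : ℕ} (hM : N ≤ M) :
    imageSubobject ((n ^ M) • 𝟙 A) = imageSubobject ((n ^ N) • 𝟙 A) := by
  obtain ⟨k, rfl⟩ := Nat.exists_eq_add_of_le hM
  refine le_antisymm (imageSubobject_le_of_refine _ _ fun X x => ?_)
    (imageSubobject_le_of_refine _ _ fun X x => ?_)
  · exact ⟨X, 𝟙 X, inferInstance, n ^ k • x, by
      rw [CategoryTheory.Functor.map_id, Category.id_comp, nsmul_eq, nsmul_eq, nsmul_pow]⟩
  · obtain ⟨X', q, hq, x', hx'⟩ := h.iterate k x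
    exact ⟨X', q, hq, x', by rw [nsmul_eq, nsmul_eq, Preadditive.comp_nsmul, hx']⟩

include hA in
/-- The cokernel of a power of `n` comes from `C`. -/
lemma essImage_cokernel {N : ℕ} (h : StabAt A n N) (k : ℕ) :
    (Ind.yoneda (C := C)).essImage (cokernel ((n ^ k) • 𝟙 A)) := by
  obtain ⟨g, hg⟩ := (hA N).lift (n ^ k • (hA (N + k)).ι) (by
    rw [nsmul_pow]; exact (hA (N + k)).nsmul_ι)
  let φ : Y.obj (cokernel g) ⟶ cokernel ((n ^ k) • 𝟙 A) :=
    (PreservesCokernel.iso Y g).hom ≫ cokernel.desc _ ((hA N).ι ≫ cokernel.π _) (by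
      rw [← Category.assoc, hg, nsmul_comp_cokernel_π])
  have hφ : Y.map (cokernel.π g) ≫ φ = (hA N).ι ≫ cokernel.π _ := by
    simp [φ]
  have : Epi φ := epi_of φ fun X x => by
    obtain ⟨X₁, q₁, hq₁, a, ha⟩ := exists_lift (cokernel.π ((n ^ k) • 𝟙 A)) x
    obtain ⟨X₂, q₂, hq₂, a', ha'⟩ := h.iterate k a
    obtain ⟨v, hv⟩ := (hA N).lift (Y.map q₂ ≫ a - n ^ k • a') (by
      rw [smul_sub, nsmul_pow, ha', sub_self])
    refine ⟨X₂, q₂ ≫ q₁, epi_comp _ _, Y.map (v ≫ cokernel.π g), ?_⟩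
    have e0 := nsmul_comp_cokernel_π (n ^ k) a'
    rw [Functor.map_comp, Category.assoc, hφ, ← Category.assoc, hv, Preadditive.sub_comp, e0,
      sub_zero, Category.assoc, ha, ← Category.assoc, ← Functor.map_comp]
  have : Mono φ := mono_of φ fun X x hx => by
    obtain ⟨X₁, q₁, hq₁, u, hu⟩ := exists_lift (Y.map (cokernel.π g)) x
    obtain ⟨u, rfl⟩ : ∃ u', Y.map u' = u := ⟨_, Ind.yoneda.fullyFaithful.map_preimage u⟩
    obtain ⟨X₂, q₂, hq₂, z, hz⟩ := exists_of_comp_cokernel ((n ^ k) • 𝟙 A) (Y.map u ≫ (hA N).ι) (by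
      rw [Category.assoc, ← hφ, ← Category.assoc, hu, Category.assoc, hx, comp_zero])
    rw [nsmul_eq] at hz
    obtain ⟨w, hw⟩ := (hA (N + k)).lift z (by
      rw [← nsmul_pow, hz, ← Preadditive.comp_nsmul, ← Preadditive.comp_nsmul, (hA N).nsmul_ι,
        comp_zero, comp_zero])
    have e : q₂ ≫ u = w ≫ g := by
      apply (Y (C := C)).map_injective
      rw [← cancel_mono (hA N).ι, Functor.map_comp, Category.assoc, ← hz, Functor.map_comp,
        Category.assoc, hg, Preadditive.comp_nsmul, hw]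
    rw [← cancel_epi (Y.map q₁), comp_zero, ← hu, ← cancel_epi (Y.map q₂), comp_zero,
      ← Functor.map_comp, ← Functor.map_comp, reassoc_of% e, cokernel.condition, comp_zero,
      Functor.map_zero]
  have : IsIso φ := isIso_of_mono_of_epi φ
  exact ⟨cokernel g, ⟨asIso φ⟩⟩

end stab

lemma essImage_kernel_kernel {n : ℕ} (f : A ⟶ B) (a : Tor A n) (b : Tor B n) :
    (Ind.yoneda (C := C)).essImage (kernel (n • 𝟙 (kernel f))) := by
  obtain ⟨g, hg⟩ := b.lift (a.ι ≫ f) (by rw [← Preadditive.nsmul_comp, a.nsmul_ι, zero_comp])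
  let ψ : Y.obj (kernel g) ⟶ kernel f := kernel.lift f (Y.map (kernel.ι g) ≫ a.ι) (by
    rw [Category.assoc, ← hg, ← Category.assoc, ← Functor.map_comp, kernel.condition,
      Functor.map_zero, zero_comp])
  have hψ : ψ ≫ kernel.ι f = Y.map (kernel.ι g) ≫ a.ι := kernel.lift_ι _ _ _
  have : Mono ψ := mono_of_mono_fac hψ
  refine essImage_of_map (kernel g) ψ ?_ fun X x hx => ?_
  · rw [← cancel_mono (kernel.ι f), Preadditive.nsmul_comp, hψ, ← Preadditive.comp_nsmul,
      a.nsmul_ι, comp_zero, zero_comp]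
  · obtain ⟨u, hu⟩ := a.lift (x ≫ kernel.ι f) (by
      rw [← Preadditive.nsmul_comp, hx, zero_comp])
    have h0 : u ≫ g = 0 := by
      apply (Y (C := C)).map_injective
      rw [← cancel_mono b.ι, Functor.map_comp, Category.assoc, hg, ← Category.assoc, hu,
        Category.assoc, kernel.condition, comp_zero, Functor.map_zero, zero_comp]
    refine ⟨X, 𝟙 X, inferInstance, kernel.lift g u h0, ?_⟩
    rw [CategoryTheory.Functor.map_id, Category.id_comp, ← cancel_mono (kernel.ι f),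
      Category.assoc, hψ, ← Category.assoc, ← Functor.map_comp, kernel.lift_ι, hu]

include htor in
lemma essImage_kernel_cokernel (hart : ∀ X : C, IsArtinianObject X) {n : ℕ} (hn : 0 < n)
    (f : A ⟶ B) (hA : ∀ k, Tor A (n ^ k)) (hB : ∀ k, Tor B (n ^ k)) (k : ℕ) :
    (Ind.yoneda (C := C)).essImage (kernel ((n ^ k) • 𝟙 (cokernel f))) := by
  obtain ⟨N, hN⟩ := exists_stabAt htor hA hart hn
  obtain ⟨NK, hNK⟩ := exists_stabAt htor
    (fun k => Tor.ofEssImage (essImage_kernel_kernel f (hA k) (hB k))) hart hn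
  let M := N + k
  let L := NK + M
  obtain ⟨fA, hfA⟩ := (hB N).lift ((hA N).ι ≫ f) (by
    rw [← Preadditive.nsmul_comp, (hA N).nsmul_ι, zero_comp])
  obtain ⟨g, hg⟩ := (hB N).lift (n ^ k • (hB M).ι) (by rw [nsmul_pow]; exact (hB M).nsmul_ι)
  obtain ⟨fL, hfL⟩ := (hB L).lift ((hA L).ι ≫ f) (by
    rw [← Preadditive.nsmul_comp, (hA L).nsmul_ι, zero_comp])
  obtain ⟨incl, hincl⟩ := (hB L).lift (hB M).ι
    (pow_le_zero (Nat.le_add_left M NK) (hB M).nsmul_ι)
  let π := cokernel.π f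
  -- `P` surjects onto the torsion of the cokernel
  let r : pullback (pullback.fst g fA ≫ incl) fL ⟶ pullback g fA := pullback.fst _ _
  let ψ₀ : Y.obj (pullback g fA) ⟶ cokernel f := Y.map (pullback.fst g fA) ≫ (hB M).ι ≫ π
  have h0 : Y.map r ≫ ψ₀ = 0 := by
    show Y.map r ≫ Y.map (pullback.fst g fA) ≫ (hB M).ι ≫ π = 0
    rw [← Category.assoc, ← Functor.map_comp, ← hincl, Category.assoc, ← Category.assoc,
      ← Functor.map_comp, Category.assoc, show r ≫ pullback.fst g fA ≫ incl = _ from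
        pullback.condition, Functor.map_comp, Category.assoc, ← Category.assoc (Y.map fL), hfL,
      Category.assoc, show f ≫ π = 0 from cokernel.condition f, comp_zero, comp_zero]
  let ψ : Y.obj (cokernel r) ⟶ cokernel f :=
    (PreservesCokernel.iso Y r).hom ≫ cokernel.desc _ ψ₀ h0
  have hψ : Y.map (cokernel.π r) ≫ ψ = ψ₀ := by
    simp [ψ]
  have hkill : n ^ k • ψ₀ = 0 := by
    show n ^ k • (Y.map (pullback.fst g fA) ≫ (hB M).ι ≫ π) = 0
    rw [← Preadditive.comp_nsmul, ← Preadditive.nsmul_comp, ← hg, Category.assoc,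
      ← Category.assoc, ← Functor.map_comp, pullback.condition, Functor.map_comp, Category.assoc,
      ← Category.assoc (Y.map fA), hfA, Category.assoc,
      show f ≫ π = 0 from cokernel.condition f, comp_zero, comp_zero]
  have : Mono ψ := mono_of ψ fun X x hx => by
    obtain ⟨X₁, q₁, hq₁, u, hu⟩ := exists_lift (Y.map (cokernel.π r)) x
    obtain ⟨u, rfl⟩ : ∃ u', Y.map u' = u := ⟨_, Ind.yoneda.fullyFaithful.map_preimage u⟩
    let b := Y.map (u ≫ pullback.fst g fA) ≫ (hB M).ι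
    have hb : b ≫ π = 0 := by
      have : Y.map u ≫ ψ₀ = 0 := by
        rw [← hψ, ← Category.assoc, hu, Category.assoc, hx, comp_zero]
      show (Y.map (u ≫ pullback.fst g fA) ≫ (hB M).ι) ≫ π = 0
      rw [Functor.map_comp, Category.assoc, Category.assoc]
      exact this
    obtain ⟨X₂, q₂, hq₂, a, ha⟩ := exists_of_comp_cokernel f b hb
    obtain ⟨X₃, q₃, hq₃, z, hz⟩ := hNK.iterate M (kernel.lift f (n ^ M • a) (by
      rw [Preadditive.nsmul_comp, ha, ← Preadditive.comp_nsmul,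
        show n ^ M • b = 0 from by
          show n ^ M • (Y.map (u ≫ pullback.fst g fA) ≫ (hB M).ι) = 0
          rw [← Preadditive.comp_nsmul, (hB M).nsmul_ι, comp_zero], comp_zero]))
    obtain ⟨w, hw⟩ := (hA L).lift (Y.map q₃ ≫ a - z ≫ kernel.ι f) (by
      have := congrArg (· ≫ kernel.ι f) hz
      simp only [Preadditive.nsmul_comp, Category.assoc, kernel.lift_ι, Preadditive.comp_nsmul,
        ← mul_smul, ← pow_add] at this
      rw [smul_sub, this, sub_self])
    have e : (q₃ ≫ q₂ ≫ u) ≫ pullback.fst g fA ≫ incl = w ≫ fL := by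
      apply (Y (C := C)).map_injective
      rw [← cancel_mono (hB L).ι, Functor.map_comp Y w fL, Category.assoc (Y.map w), hfL, reassoc_of% hw]
      simp only [Preadditive.sub_comp, Category.assoc, ha, kernel.condition, comp_zero, sub_zero]
      simp only [Functor.map_comp, Category.assoc, hincl, b]
    have e' : Y.map (q₃ ≫ q₂ ≫ u) ≫ Y.map (cokernel.π r) = 0 := by
      rw [← Functor.map_comp, ← pullback.lift_fst (f := pullback.fst g fA ≫ incl) (g := fL)
        (q₃ ≫ q₂ ≫ u) w e, Category.assoc, show pullback.fst _ fL ≫ cokernel.π r = 0 from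
          cokernel.condition r, comp_zero, Functor.map_zero]
    rw [← cancel_epi (Y.map q₁), comp_zero, ← hu, ← cancel_epi (Y.map (q₃ ≫ q₂)), comp_zero,
      ← e']
    simp only [Functor.map_comp, Category.assoc]
  refine essImage_of_map (cokernel r) ψ ?_ fun X x hx => ?_
  · rw [← cancel_epi (Y.map (cokernel.π r)), comp_zero, Preadditive.comp_nsmul, hψ, hkill]
  · obtain ⟨X₁, q₁, hq₁, b, hb⟩ := exists_lift π x
    obtain ⟨X₂, q₂, hq₂, a, ha⟩ := exists_of_comp_cokernel f (n ^ k • b) (by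
      rw [Preadditive.nsmul_comp, hb, ← Preadditive.comp_nsmul, hx, comp_zero])
    obtain ⟨X₃, q₃, hq₃, a', ha'⟩ := hN.iterate k a
    obtain ⟨s, hs⟩ := (hA N).lift (Y.map q₃ ≫ a - n ^ k • a') (by
      rw [smul_sub, ha', nsmul_pow, sub_self])
    let b' := Y.map (q₃ ≫ q₂) ≫ b - a' ≫ f
    have hb' : n ^ k • b' = Y.map s ≫ (hA N).ι ≫ f := by
      rw [← Category.assoc, hs, Preadditive.sub_comp, Category.assoc, ha, smul_sub,
        Preadditive.nsmul_comp, Functor.map_comp, Category.assoc]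
      simp only [Preadditive.comp_nsmul]
    obtain ⟨t, ht⟩ := (hB M).lift b' (by
      rw [← nsmul_pow, hb', ← Category.assoc, ← Preadditive.nsmul_comp, ← Preadditive.comp_nsmul,
        (hA N).nsmul_ι, comp_zero, zero_comp])
    have e : t ≫ g = s ≫ fA := by
      apply (Y (C := C)).map_injective
      rw [← cancel_mono (hB N).ι, Functor.map_comp, Category.assoc, hg, Preadditive.comp_nsmul,
        ht, hb', Functor.map_comp, Category.assoc, hfA]
    refine ⟨X₃, (q₃ ≫ q₂) ≫ q₁, epi_comp _ _, pullback.lift t s e ≫ cokernel.π r, ?_⟩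
    rw [Functor.map_comp, Category.assoc, hψ, ← Category.assoc, ← Functor.map_comp,
      pullback.lift_fst, ← Category.assoc, ht, Preadditive.sub_comp, Category.assoc, Category.assoc,
      show f ≫ π = 0 from cokernel.condition f, comp_zero, sub_zero, hb, ← Category.assoc,
      ← Functor.map_comp]

end Groth.Agent.IndCofLib
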