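import Groth.Agent.IndCofLib.Cofinite
import Mathlib.Tactic.LinearCombination
import Mathlib.Tactic.Ring

/-!
Divisible parts of ind-objects of cofinite type.
-/

set_option autoImplicit false
set_option linter.unusedSectionVars false

universe v w u

open CategoryTheory CategoryTheory.Limits Opposite

namespace Groth.Agent.IndCofLib

section general

variable {V : Type u} [Category.{w} V] [Abelian V] {B : V}

lemma comp_nsmul_id {A : V} (f : A ⟶ B) (m : ℕ) : f ≫ (m • 𝟙 B) = m • f := by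
  rw [Preadditive.comp_nsmul, Category.comp_id]

lemma nsmul_id_comp {A : V} (f : A ⟶ B) (m : ℕ) : (m • 𝟙 A) ≫ f = m • f := by
  rw [Preadditive.nsmul_comp, Category.id_comp]

lemma comp_cokernel_imageSubobject {A : V} (f : A ⟶ B) :
    f ≫ cokernel.π (imageSubobject f).arrow = 0 := by
  have h := congrArg (fun t => factorThruImageSubobject f ≫ t)
    (cokernel.condition (imageSubobject f).arrow)
  simp only [← Category.assoc, imageSubobject_arrow_comp, comp_zero] at h
  exact h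

lemma nsmul_comp_cokernel (k : ℕ) {A : V} (f : A ⟶ B) : (k • f) ≫ cokernel.π (k • 𝟙 B) = 0 := by
  have h := congrArg (f ≫ ·) (cokernel.condition (k • 𝟙 B))
  simp only [← Category.assoc, comp_zero, comp_nsmul_id] at h
  exact h

lemma nsmul_cokernel_imageSubobject {m : ℕ} :
    m • 𝟙 (cokernel (imageSubobject (m • 𝟙 B)).arrow) = 0 := by
  rw [← cancel_epi (cokernel.π (imageSubobject (m • 𝟙 B)).arrow), comp_zero, comp_nsmul_id]
  exact (nsmul_id_comp (cokernel.π (imageSubobject (m • 𝟙 B)).arrow) m).symm.trans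
    (comp_cokernel_imageSubobject (m • 𝟙 B))

lemma le_of_divisible (B' : Subobject B) {M : ℕ} (hM : M • 𝟙 (cokernel B'.arrow) = 0)
    (D : Subobject B) (hD : Epi (M • 𝟙 (D : V))) : D ≤ B' := by
  have h : D.arrow ≫ cokernel.π B'.arrow = 0 := by
    rw [← cancel_epi (M • 𝟙 (D : V)), comp_zero, nsmul_id_comp, ← comp_nsmul_id, Category.assoc,
      hM, comp_zero, comp_zero]
  exact Subobject.le_of_comm (Abelian.monoLift B'.arrow D.arrow h) (Abelian.monoLift_comp _ _ _)

lemma imageSubobject_nsmul_eq (B' : Subobject B) {k : ℕ} (hdiv : Epi (k • 𝟙 (B' : V)))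
    (hM : k • 𝟙 (cokernel B'.arrow) = 0) : imageSubobject (k • 𝟙 B) = B' := by
  have h1 : (k • 𝟙 B) ≫ cokernel.π B'.arrow = 0 := by
    rw [nsmul_id_comp, ← comp_nsmul_id, hM, comp_zero]
  refine le_antisymm (imageSubobject_le _ (Abelian.monoLift B'.arrow _ h1)
    (Abelian.monoLift_comp _ _ _)) ?_
  have h2 : B'.arrow ≫ cokernel.π (k • 𝟙 B) = 0 := by
    rw [← cancel_epi (k • 𝟙 (B' : V)), comp_zero, ← Category.assoc, nsmul_id_comp,
      nsmul_comp_cokernel]
  exact Subobject.le_of_comm (Abelian.monoLift (imageSubobject (k • 𝟙 B)).arrow B'.arrow (by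
      rw [← cokernel.π_desc (k • 𝟙 B) _ (comp_cokernel_imageSubobject (k • 𝟙 B)), ← Category.assoc,
        h2, zero_comp]))
    (Abelian.monoLift_comp _ _ _)

theorem mittagLeffler_iff (B : V) :
    ((∀ n : ℕ, 0 < n → ∃ m : ℕ, 0 < m ∧ n ∣ m ∧ ∀ m' : ℕ, 0 < m' → m ∣ m' →
        imageSubobject ((m' / n) • 𝟙 B) = imageSubobject ((m / n) • 𝟙 B)) ↔
      ∃ B' : Subobject B, (∀ k : ℕ, 0 < k → Epi (k • 𝟙 (B' : V))) ∧
        ∃ M : ℕ, 0 < M ∧ M • 𝟙 (cokernel B'.arrow) = 0) := by
  constructor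
  · intro h
    obtain ⟨m, hm, -, hst⟩ := h 1 one_pos
    simp only [Nat.div_one] at hst
    refine ⟨imageSubobject (m • 𝟙 B), fun k hk => ?_, m, hm, nsmul_cokernel_imageSubobject⟩
    have e := hst (m * k) (Nat.mul_pos hm hk) (dvd_mul_right m k)
    have h1 : factorThruImageSubobject (m • 𝟙 B) ≫
        (k • 𝟙 ((imageSubobject (m • 𝟙 B) : Subobject B) : V)) =
        factorThruImageSubobject ((m * k) • 𝟙 B) ≫ Subobject.ofLE _ _ e.le := by
      rw [← cancel_mono (imageSubobject (m • 𝟙 B)).arrow, Category.assoc, Category.assoc,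
        nsmul_id_comp, Preadditive.comp_nsmul, Subobject.ofLE_arrow, imageSubobject_arrow_comp,
        imageSubobject_arrow_comp, ← mul_smul, mul_comm k m]
    have : IsIso (Subobject.ofLE _ _ e.le) :=
      ⟨Subobject.ofLE _ _ e.ge, by simp, by simp⟩
    have : Epi (factorThruImageSubobject (m • 𝟙 B) ≫
        (k • 𝟙 ((imageSubobject (m • 𝟙 B) : Subobject B) : V))) := by
      rw [h1]; exact epi_comp _ _
    exact epi_of_epi (factorThruImageSubobject (m • 𝟙 B)) _
  · rintro ⟨B', hdiv, M, hM, hMB⟩ n hn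
    have key : ∀ c, 0 < c → imageSubobject ((M * c) • 𝟙 B) = B' := fun c hc =>
      imageSubobject_nsmul_eq B' (hdiv _ (Nat.mul_pos hM hc)) (by
        rw [mul_comm, mul_smul, hMB, smul_zero])
    refine ⟨n * M, Nat.mul_pos hn hM, dvd_mul_right n M, fun m' hm' hdvd => ?_⟩
    obtain ⟨c, rfl⟩ := hdvd
    rw [Nat.mul_div_cancel_left M hn, mul_assoc, Nat.mul_div_cancel_left _ hn]
    rw [key c (Nat.pos_of_mul_pos_left hm'), ← key 1 one_pos, mul_one]

end general

variable {C : Type v} [SmallCategory C] [Abelian C] {A : Ind C}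

/-- Data of cofinite type for `n` transported along a monomorphism. -/
lemma essImage_kernel_of_mono {D : Ind C} (ι : D ⟶ A) [Mono ι] {n : ℕ}
    (hA : Tor A n) {Q : C} (π : A ⟶ Y.obj Q) (hι : ι ≫ π = 0)
    (hex : ∀ (X : C) (x : Y.obj X ⟶ A), x ≫ π = 0 → ∃ d : Y.obj X ⟶ D, d ≫ ι = x) :
    (Ind.yoneda (C := C)).essImage (kernel (n • 𝟙 D)) := by
  obtain ⟨g, hg⟩ : ∃ g, Y.map g = hA.ι ≫ π := ⟨_, Ind.yoneda.fullyFaithful.map_preimage _⟩
  obtain ⟨d, hd⟩ := hex (kernel g) (Y.map (kernel.ι g) ≫ hA.ι) (by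
    rw [Category.assoc, ← hg, ← Functor.map_comp, kernel.condition, Functor.map_zero])
  have : Mono d := mono_of_mono_fac hd
  refine essImage_of_map (kernel g) d ?_ fun X x hx => ?_
  · rw [← cancel_mono ι, Preadditive.nsmul_comp, hd, ← Preadditive.comp_nsmul, hA.nsmul_ι,
      comp_zero, zero_comp]
  · obtain ⟨u, hu⟩ := hA.lift (x ≫ ι) (by rw [← Preadditive.nsmul_comp, hx, zero_comp])
    refine ⟨X, 𝟙 X, inferInstance, kernel.lift g u ?_, ?_⟩
    · apply (Y (C := C)).map_injective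
      rw [Functor.map_comp, hg, ← Category.assoc, hu, Category.assoc, hι, comp_zero,
        Functor.map_zero]
    · rw [CategoryTheory.Functor.map_id, Category.id_comp, ← cancel_mono ι, Category.assoc, hd,
        ← Category.assoc, ← Functor.map_comp, kernel.lift_ι, hu]

lemma exists_factor_of_comp_cokernel {D : Subobject A} {X : C} (x : Y.obj X ⟶ A)
    (h : x ≫ cokernel.π D.arrow = 0) : ∃ d : Y.obj X ⟶ (D : Ind C), d ≫ D.arrow = x :=
  ⟨Abelian.monoLift D.arrow x h, Abelian.monoLift_comp _ _ _⟩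

lemma exists_lift_image {B : Ind C} {f : B ⟶ A} {X : C}
    (x : Y.obj X ⟶ ((imageSubobject f : Subobject A) : Ind C)) :
    ∃ (X' : C) (q : X' ⟶ X) (_ : Epi q) (l : Y.obj X' ⟶ B),
      l ≫ f = Y.map q ≫ x ≫ (imageSubobject f).arrow := by
  obtain ⟨X', q, hq, l, hl⟩ := exists_lift (factorThruImageSubobject f) x
  exact ⟨X', q, hq, l, by rw [← reassoc_of% hl, imageSubobject_arrow_comp]⟩

variable {n : ℕ}

/-- Division by `k` on the image of `n ^ N` for `k ∣ n`. -/
lemma StabAt.epi_image {N : ℕ} (h : StabAt A n N) {k : ℕ} (hk : k ∣ n) :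
    Epi (k • 𝟙 ((imageSubobject ((n ^ N) • 𝟙 A) : Subobject A) : Ind C)) :=
  epi_of _ fun X x => by
    obtain ⟨X₁, q₁, hq₁, a, ha⟩ := exists_lift_image x
    obtain ⟨X₂, q₂, hq₂, a', ha'⟩ := h a
    obtain ⟨c, hc⟩ := hk
    refine ⟨X₂, q₂ ≫ q₁, epi_comp _ _, (c • a') ≫ factorThruImageSubobject ((n ^ N) • 𝟙 A), ?_⟩
    rw [← cancel_mono (imageSubobject ((n ^ N) • 𝟙 A)).arrow]
    simp only [Category.assoc, nsmul_id_comp, Preadditive.comp_nsmul, imageSubobject_arrow_comp,
      Category.comp_id, Functor.map_comp, Preadditive.nsmul_comp]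
    rw [← ha]
    simp only [Preadditive.comp_nsmul, Category.comp_id]
    rw [ha', ← mul_smul, ← mul_smul, pow_succ]
    congr 1
    subst hc
    ring

lemma epi_image_of_epi {k : ℕ} (hk : Epi (k • 𝟙 A)) {m : ℕ} :
    Epi (k • 𝟙 ((imageSubobject (m • 𝟙 A) : Subobject A) : Ind C)) := by
  have h1 : factorThruImageSubobject (m • 𝟙 A) ≫
      (k • 𝟙 ((imageSubobject (m • 𝟙 A) : Subobject A) : Ind C)) =
      (k • 𝟙 A) ≫ factorThruImageSubobject (m • 𝟙 A) := by
    rw [nsmul_id_comp, comp_nsmul_id]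
  have : Epi (factorThruImageSubobject (m • 𝟙 A) ≫
      (k • 𝟙 ((imageSubobject (m • 𝟙 A) : Subobject A) : Ind C))) := by
    rw [h1]; exact epi_comp _ _
  exact epi_of_epi (factorThruImageSubobject (m • 𝟙 A)) _

section chain

variable (hart : ∀ X : C, IsArtinianObject X) {p : ℕ}
  (htor : ∀ X : C, ∃ a : ℕ, (p ^ a) • 𝟙 X = 0)

include hart htor in
theorem chain_stabilizes (hA : ∀ k, Tor A (p ^ k)) (S : ℕ → Subobject A) (hS : Antitone S)
    (hcof : ∀ m k, Tor ((S m : Subobject A) : Ind C) (p ^ k)) :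
    ∃ N : ℕ, ∀ m : ℕ, N ≤ m → S m = S N := by
  choose J hJ using fun m k => (hA 1).lift (p ^ k • ((hcof m (k + 1)).ι ≫ (S m).arrow)) (by
    rw [nsmul_pow, add_comm 1 k, ← Preadditive.nsmul_comp, (hcof m (k + 1)).nsmul_ι, zero_comp])
  let I : ℕ → ℕ → Subobject (hA 1).G := fun m k => imageSubobject (J m k)
  -- antitone in both variables
  have hm : ∀ {m m'} (_ : m ≤ m') (k), I m' k ≤ I m k := fun {m m'} hmm k => by
    obtain ⟨v, hv⟩ := (hcof m (k + 1)).lift ((hcof m' (k + 1)).ι ≫ Subobject.ofLE _ _ (hS hmm)) (by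
      rw [← Preadditive.nsmul_comp, (hcof m' (k + 1)).nsmul_ι, zero_comp])
    refine imageSubobject_le _ (v ≫ factorThruImageSubobject (J m k)) ?_
    rw [Category.assoc, imageSubobject_arrow_comp]
    apply (Y (C := C)).map_injective
    rw [← cancel_mono (hA 1).ι, Functor.map_comp, Category.assoc, hJ, hJ, Preadditive.comp_nsmul,
      reassoc_of% hv, Subobject.ofLE_arrow]
  have hk : ∀ m k, I m (k + 1) ≤ I m k := fun m k => by
    obtain ⟨v, hv⟩ := (hcof m (k + 1)).lift (p • (hcof m (k + 2)).ι) (by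
      rw [← mul_smul, ← pow_succ]; exact (hcof m (k + 2)).nsmul_ι)
    refine imageSubobject_le _ (v ≫ factorThruImageSubobject (J m k)) ?_
    rw [Category.assoc, imageSubobject_arrow_comp]
    apply (Y (C := C)).map_injective
    rw [← cancel_mono (hA 1).ι, Functor.map_comp, Category.assoc, hJ, hJ, Preadditive.comp_nsmul,
      reassoc_of% hv, Preadditive.nsmul_comp, ← mul_smul, ← pow_succ]
  have hk' : ∀ m {k k'} (_ : k ≤ k'), I m k' ≤ I m k := fun m {k k'} h =>
    antitone_nat_of_succ_le (hk m) h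
  have hart' := hart (hA 1).G
  obtain ⟨I₀, ⟨⟨m₁, k₁⟩, rfl⟩, hmin⟩ := WellFounded.has_min
    (wellFounded_lt (α := Subobject (hA 1).G)) (Set.range fun mk : ℕ × ℕ => I mk.1 mk.2) ⟨_, ⟨(0, 0), rfl⟩⟩
  have hbig : ∀ m, m₁ ≤ m → ∀ k, k₁ ≤ k → I m k = I m₁ k₁ := fun m h k h' =>
    eq_of_le_of_not_lt ((hm h k).trans (hk' m₁ h')) (hmin _ ⟨(m, k), rfl⟩)
  choose M hM using fun k => antitone_chain_condition_of_isArtinianObject
    (⟨fun m => OrderDual.toDual (I m k),
      fun m m' h => OrderDual.toDual_le_toDual.2 (hm h k)⟩ : ℕ →o (Subobject (hA 1).G)ᵒᵈ)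
  let N := max m₁ ((Finset.range k₁).sup M)
  have hstab : ∀ m, N ≤ m → ∀ k, I m k = I N k := fun m h k => by
    by_cases h' : k₁ ≤ k
    · rw [hbig m ((le_max_left _ _).trans h) k h', hbig N (le_max_left _ _) k h']
    · have hkM : M k ≤ N :=
        (Finset.le_sup (f := M) (Finset.mem_range.2 (not_le.1 h'))).trans (le_max_right _ _)
      exact congrArg OrderDual.ofDual ((hM k m (hkM.trans h)).symm.trans (hM k N hkM))
  refine ⟨N, fun m h => le_antisymm (hS h) ?_⟩
  have key : ∀ j {X : C} (x : Y.obj X ⟶ (S N : Ind C)), p ^ j • x = 0 →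
      (x ≫ (S N).arrow) ≫ cokernel.π (S m).arrow = 0 := by
    intro j
    induction j with
    | zero =>
      intro X x hx
      rw [pow_zero, one_smul] at hx
      rw [hx, zero_comp, zero_comp]
    | succ j ih =>
      intro X x hx
      obtain ⟨u, hu⟩ := (hcof N (j + 1)).lift x hx
      obtain ⟨X', q, hq, l, hl⟩ := surjective_up_to_refinements_of_epi
        (factorThruImageSubobject (J m j))
        (u ≫ factorThruImageSubobject (J N j) ≫ Subobject.ofLE _ _ (hstab m h j).ge)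
      have e : q ≫ u ≫ J N j = l ≫ J m j := by
        have := congrArg (· ≫ (imageSubobject (J m j)).arrow) hl
        simpa [I] using this
      let x' : Y.obj X' ⟶ (S m : Ind C) := Y.map l ≫ (hcof m (j + 1)).ι
      have e' : p ^ j • (Y.map q ≫ x ≫ (S N).arrow) = p ^ j • (x' ≫ (S m).arrow) := by
        have := congrArg (fun t => Y.map t ≫ (hA 1).ι) e
        simp only [Functor.map_comp, Category.assoc, hJ, Preadditive.comp_nsmul] at this
        rw [reassoc_of% hu] at this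
        simpa [x'] using this
      have h0 := ih (Y.map q ≫ x - x' ≫ Subobject.ofLE _ _ (hS h)) (by
        rw [← cancel_mono (S N).arrow, zero_comp, Preadditive.nsmul_comp, Preadditive.sub_comp,
          Category.assoc, Category.assoc, Subobject.ofLE_arrow, smul_sub, e', sub_self])
      simp only [Preadditive.sub_comp, Category.assoc, Subobject.ofLE_arrow_assoc,
        cokernel.condition, comp_zero, sub_zero] at h0
      rw [← cancel_epi (Y.map q), comp_zero, Category.assoc]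
      exact h0
  have hle : (S N).arrow ≫ cokernel.π (S m).arrow = 0 := hom_ext fun X x => by
    obtain ⟨a, ha⟩ := htor X
    rw [comp_zero, ← Category.assoc]
    refine key a x ?_
    rw [← Category.id_comp x, ← Preadditive.nsmul_comp, ← (Y (C := C)).map_id,
      ← Functor.map_nsmul, ha, Functor.map_zero, zero_comp]
  exact Subobject.le_of_comm (Abelian.monoLift (S m).arrow (S N).arrow hle)
    (Abelian.monoLift_comp _ _ _)

end chain

section largest

variable (hart : ∀ X : C, IsArtinianObject X) (htor : ∀ X : C, ∃ m : ℕ, 0 < m ∧ m • 𝟙 X = 0)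

/-- A class is divisible at all integers. -/
def DivEl {X : C} (x : Y.obj X ⟶ A) : Prop :=
  ∀ m : ℕ, 0 < m → x ≫ cokernel.π (m • 𝟙 A) = 0

include hart htor in
lemma divEl_of_tors (hA : ∀ n k, 0 < n → Tor A (n ^ k)) {X : C} {x : Y.obj X ⟶ A}
    {l : ℕ} (hl : 0 < l) (hx : l • x = 0) {N : ℕ} (hN : StabAt A l N)
    (h : x ≫ cokernel.π ((l ^ N) • 𝟙 A) = 0) : DivEl x := by
  intro m hm
  obtain ⟨r, hrm, hrl, hd⟩ := exists_coprime_part m l hm hl
  obtain ⟨X₁, q₁, hq₁, a, ha⟩ := exists_of_comp_cokernel _ x h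
  rw [nsmul_eq] at ha
  obtain ⟨X₂, q₂, hq₂, a', ha'⟩ := hN.iterate m a
  have hb := Nat.gcd_eq_gcd_ab r l
  rw [Nat.Coprime.gcd_eq_one hrl] at hb
  obtain ⟨c, hc⟩ := hd
  -- `x = r u x` and `x` is a multiple of `l ^ (N + m)`
  have e1 : Y.map (q₂ ≫ q₁) ≫ x = l ^ (N + m) • a' := by
    rw [Functor.map_comp, Category.assoc, ← ha, Preadditive.comp_nsmul, ha']
  have e2 : Y.map (q₂ ≫ q₁) ≫ x = (r : ℤ) • (Nat.gcdA r l • (Y.map (q₂ ≫ q₁) ≫ x)) := by
    conv_lhs => rw [← Category.id_comp x, ← one_zsmul (𝟙 _ : Y.obj X ⟶ Y.obj X),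
      show (1 : ℤ) = ((1 : ℕ) : ℤ) from rfl, hb, add_smul, Preadditive.add_comp,
      Preadditive.zsmul_comp, Category.id_comp, Preadditive.zsmul_comp, Category.id_comp,
      mul_comm (l : ℤ), mul_smul _ (l : ℤ), natCast_zsmul, hx, smul_zero, add_zero,
      Preadditive.comp_zsmul, mul_smul]
  refine comp_cokernel_eq_zero (m • 𝟙 A) x (q₂ ≫ q₁)
    (Nat.gcdA r l • (l ^ N • (c • a'))) ?_
  rw [nsmul_eq, e2, e1, ← natCast_zsmul, ← natCast_zsmul, ← natCast_zsmul, ← natCast_zsmul,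
    ← mul_smul, ← mul_smul, ← mul_smul, ← mul_smul, ← mul_smul]
  congr 1
  have hc' : ((l : ℤ) ^ m * r) = m * c := by exact_mod_cast hc
  push_cast
  rw [pow_add]
  linear_combination -(Nat.gcdA r l * (l : ℤ) ^ N) * hc'

include hart htor in
theorem exists_largest (hA : ∀ n k, 0 < n → Tor A (n ^ k)) :
    ∃ D : Subobject A, (∀ k : ℕ, 0 < k → Epi (k • 𝟙 (D : Ind C))) ∧
      (∀ D' : Subobject A, (∀ k : ℕ, 0 < k → Epi (k • 𝟙 (D' : Ind C))) → D' ≤ D) ∧
      (∀ n : ℕ, 0 < n → (Ind.yoneda (C := C)).essImage (kernel (n • 𝟙 (D : Ind C)))) := by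
  choose N hN using fun l : ℕ =>
    exists_stabAt htor (fun k => hA (l + 1) k l.succ_pos) hart l.succ_pos
  choose g hg using fun l : ℕ => (hA (l + 1) 1 l.succ_pos).lift
    ((l + 1) ^ N l • (hA (l + 1) (N l + 1) l.succ_pos).ι) (by
      rw [nsmul_pow, add_comm 1]; exact (hA (l + 1) (N l + 1) l.succ_pos).nsmul_ι)
  let P : ULift.{v} ℕ → Ind C := fun l => Y.obj (imageSubobject (g l.down) : C)
  let ι : ∀ l, P l ⟶ A := fun l =>
    Y.map (imageSubobject (g l.down)).arrow ≫ (hA (l.down + 1) 1 l.down.succ_pos).ι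
  have hι0 : ∀ l, (l.down + 1) • ι l = 0 := fun l => by
    show (l.down + 1) • (Y.map _ ≫ (hA (l.down + 1) 1 l.down.succ_pos).ι) = 0
    have h0 : (l.down + 1) • (hA (l.down + 1) 1 l.down.succ_pos).ι = 0 := by
      simpa using (hA (l.down + 1) 1 l.down.succ_pos).nsmul_ι
    rw [← Preadditive.comp_nsmul, h0, comp_zero]
  have hιim : ∀ l, ι l ≫ cokernel.π (((l.down + 1) ^ N l.down) • 𝟙 A) = 0 := fun l => by
    rw [← cancel_epi (Y.map (factorThruImageSubobject (g l.down))), comp_zero, ← Category.assoc]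
    show (Y.map _ ≫ Y.map _ ≫ _) ≫ _ = 0
    rw [← Category.assoc (Y.map (factorThruImageSubobject (g l.down))), ← Functor.map_comp,
      imageSubobject_arrow_comp, hg, nsmul_comp_cokernel_π]
  let D := imageSubobject (Sigma.desc ι)
  have hdivP : ∀ l, DivEl (ι l) := fun l =>
    divEl_of_tors hart htor hA l.down.succ_pos (hι0 l) (hN l.down) (hιim l)
  have hDdiv : ∀ {X : C} (d : Y.obj X ⟶ (D : Ind C)), DivEl (d ≫ D.arrow) := fun {X} d m hm => by
    have : D.arrow ≫ cokernel.π (m • 𝟙 A) = 0 := by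
      refine imageSubobject_arrow_comp_eq_zero (Sigma.hom_ext _ _ fun l => ?_)
      rw [Sigma.ι_desc_assoc, comp_zero]
      exact hdivP l m hm
    rw [Category.assoc, this, comp_zero]
  -- divisible torsion classes lie in `D`
  have hmem : ∀ {X : C} (x : Y.obj X ⟶ A) (l : ℕ), (l + 1) • x = 0 →
      x ≫ cokernel.π (((l + 1) ^ N l) • 𝟙 A) = 0 → x ≫ cokernel.π D.arrow = 0 := by
    intro X x l hx h
    obtain ⟨X₁, q, hq, a, ha⟩ := exists_of_comp_cokernel _ x h
    rw [nsmul_eq] at ha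
    obtain ⟨w, hw⟩ := (hA (l + 1) (N l + 1) l.succ_pos).lift a (by
      rw [pow_succ', mul_smul, ha, ← Preadditive.comp_nsmul, hx, comp_zero])
    let d : Y.obj X₁ ⟶ (D : Ind C) := Y.map (w ≫ factorThruImageSubobject (g l)) ≫
      Sigma.ι P ⟨l⟩ ≫ factorThruImageSubobject (Sigma.desc ι)
    have e : d ≫ D.arrow = Y.map q ≫ x := by
      show (Y.map _ ≫ Sigma.ι P ⟨l⟩ ≫ factorThruImageSubobject _) ≫ (imageSubobject _).arrow = _
      simp only [Category.assoc, imageSubobject_arrow_comp, Sigma.ι_desc, ι]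
      rw [← Category.assoc, ← Functor.map_comp, Category.assoc, imageSubobject_arrow_comp,
        Functor.map_comp, Category.assoc, hg, Preadditive.comp_nsmul, hw, ha]
    exact comp_cokernel_eq_zero D.arrow x q d e
  refine ⟨D, fun k hk => ?_, fun D' hD' => ?_, fun n hn => ?_⟩
  · refine epi_of _ fun X x => ?_
    obtain ⟨m, hm, hmx⟩ := exists_nsmul_eq_zero htor x
    have hl : 0 < m * k := Nat.mul_pos hm hk
    obtain ⟨l, hl'⟩ : ∃ l, m * k = l + 1 := ⟨m * k - 1, by omega⟩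
    obtain ⟨X₁, q₁, hq₁, a, ha⟩ :=
      exists_of_comp_cokernel _ (x ≫ D.arrow) (hDdiv x _ (pow_pos l.succ_pos (N l + 1)))
    rw [nsmul_eq] at ha
    let z : Y.obj X₁ ⟶ A := (m * (l + 1) ^ N l) • a
    have hz : k • z = Y.map q₁ ≫ x ≫ D.arrow := by
      rw [← ha, ← mul_smul, pow_succ, ← hl']
      congr 1
      rw [Nat.succ_eq_add_one, ← hl']
      ring
    have hz0 : z ≫ cokernel.π D.arrow = 0 := by
      refine hmem z l ?_ ?_
      · rw [← hl', mul_smul, hz, ← Category.assoc, ← Preadditive.nsmul_comp,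
          ← Preadditive.comp_nsmul, hmx, comp_zero, zero_comp]
      · show ((m * (l + 1) ^ N l) • a) ≫ _ = 0
        rw [mul_comm, mul_smul, nsmul_comp_cokernel_π]
    obtain ⟨d, hd⟩ := exists_factor_of_comp_cokernel z hz0
    refine ⟨X₁, q₁, hq₁, d, ?_⟩
    rw [← cancel_mono D.arrow, Category.assoc, Category.assoc, nsmul_id_comp,
      Preadditive.comp_nsmul, hd, hz]
  · have hle : D'.arrow ≫ cokernel.π D.arrow = 0 := hom_ext fun X x => by
      obtain ⟨m, hm, hmx⟩ := exists_nsmul_eq_zero htor x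
      obtain ⟨l, rfl⟩ : ∃ l, m = l + 1 := ⟨m - 1, by omega⟩
      rw [comp_zero, ← Category.assoc]
      refine hmem (x ≫ D'.arrow) l (by rw [← Preadditive.nsmul_comp, hmx, zero_comp]) ?_
      have := hD' ((l + 1) ^ N l) (pow_pos l.succ_pos _)
      have e : D'.arrow ≫ cokernel.π (((l + 1) ^ N l) • 𝟙 A) = 0 := by
        rw [← cancel_epi (((l + 1) ^ N l) • 𝟙 (D' : Ind C)), comp_zero, ← Category.assoc,
          nsmul_id_comp, nsmul_comp_cokernel_π]
      rw [Category.assoc, e, comp_zero]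
    exact Subobject.le_of_comm (Abelian.monoLift D.arrow D'.arrow hle) (Abelian.monoLift_comp _ _ _)
  · obtain ⟨l, rfl⟩ : ∃ l, n = l + 1 := ⟨n - 1, by omega⟩
    obtain ⟨d, hd⟩ := exists_factor_of_comp_cokernel (ι ⟨l⟩)
      (hmem _ l (hι0 ⟨l⟩) (hιim ⟨l⟩))
    have : Mono (ι ⟨l⟩) := mono_comp _ _
    have : Mono d := mono_of_mono_fac hd
    refine essImage_of_map _ d ?_ fun X x hx => ?_
    · rw [← cancel_mono D.arrow, Preadditive.nsmul_comp, hd, hι0 ⟨l⟩, zero_comp]
    · obtain ⟨X₁, q, hq, a, ha⟩ := exists_of_comp_cokernel _ (x ≫ D.arrow)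
        (hDdiv x _ (pow_pos l.succ_pos (N l)))
      rw [nsmul_eq] at ha
      obtain ⟨w, hw⟩ := (hA (l + 1) (N l + 1) l.succ_pos).lift a (by
        rw [pow_succ', mul_smul, ha, ← Preadditive.comp_nsmul, ← Preadditive.nsmul_comp, hx,
          zero_comp, comp_zero])
      refine ⟨X₁, q, hq, w ≫ factorThruImageSubobject (g l), ?_⟩
      rw [← cancel_mono D.arrow, Category.assoc, hd, Category.assoc, ← ha]
      show Y.map _ ≫ Y.map _ ≫ _ = _
      rw [← Category.assoc, ← Functor.map_comp, Category.assoc, imageSubobject_arrow_comp,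
        Functor.map_comp, Category.assoc, hg, Preadditive.comp_nsmul, hw]

end largest

end Groth.Agent.IndCofLib
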